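import Mathlib.RingTheory.Spectrum.Prime.FreeLocus
import Mathlib.RingTheory.LocalRing.Module
import Mathlib.LinearAlgebra.TensorProduct.RightExactness
import Mathlib.RingTheory.LocalRing.ResidueField.Ideal
import Mathlib.RingTheory.Flat.Localization

/-!
Projectivity of a cokernel of a map of finite projective modules, pointwise criterion.
-/

set_option autoImplicit false

namespace Groth.Agent.CokerProj

open TensorProduct

variable {R : Type*} [CommRing R]
variable {M N : Type*} [AddCommGroup M] [Module R M] [AddCommGroup N] [Module R N]

theorem cond_iff_range_injective (k : Type*) [CommRing k] [Algebra R k] (d : M →ₗ[R] N) :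
    LinearMap.ker (d.baseChange k) ≤ LinearMap.range ((LinearMap.ker d).subtype.baseChange k) ↔
      Function.Injective ((LinearMap.range d).subtype.baseChange k) := by
  have hexact : Function.Exact ((LinearMap.ker d).subtype.baseChange k)
      (d.rangeRestrict.baseChange k) :=
    lTensor_exact k (by
      intro x
      simp [LinearMap.mem_ker, Subtype.ext_iff]) d.surjective_rangeRestrict
  have hsurj : Function.Surjective (d.rangeRestrict.baseChange k) :=
    LinearMap.lTensor_surjective k d.surjective_rangeRestrict
  have hcomp : d.baseChange k =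
      (LinearMap.range d).subtype.baseChange k ∘ₗ d.rangeRestrict.baseChange k := by
    rw [← LinearMap.baseChange_comp]
    rfl
  constructor
  · intro h
    rw [injective_iff_map_eq_zero]
    intro y hy
    obtain ⟨x, rfl⟩ := hsurj y
    have hx : x ∈ LinearMap.ker (d.baseChange k) := by
      rw [LinearMap.mem_ker, hcomp]
      exact hy
    exact (hexact x).mpr (h hx)
  · intro h x hx
    rw [LinearMap.mem_ker, hcomp] at hx
    exact (hexact x).mp ((map_eq_zero_iff _ h).mp hx)

theorem exists_retraction {S : Type*} [CommRing S] {X Y Z : Type*} [AddCommGroup X] [Module S X]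
    [AddCommGroup Y] [Module S Y] [AddCommGroup Z] [Module S Z] [Module.Projective S Z]
    (f : X →ₗ[S] Y) (g : Y →ₗ[S] Z) (hf : Function.Injective f) (hg : Function.Surjective g)
    (h : Function.Exact f g) : ∃ r : Y →ₗ[S] X, r ∘ₗ f = LinearMap.id := by
  obtain ⟨s, hs⟩ := Module.projective_lifting_property g LinearMap.id hg
  let e : Y →ₗ[S] Y := LinearMap.id - s ∘ₗ g
  have hmem : ∀ y, e y ∈ LinearMap.range f := fun y => by
    obtain ⟨x, hx⟩ := (h (e y)).mp (by
      have := LinearMap.congr_fun hs (g y)
      simp only [LinearMap.comp_apply, LinearMap.id_apply] at this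
      simp [e, this])
    exact ⟨x, hx⟩
  refine ⟨(LinearEquiv.ofInjective f hf).symm.toLinearMap ∘ₗ
    e.codRestrict _ hmem, ?_⟩
  ext x
  apply (LinearEquiv.ofInjective f hf).injective
  simp only [LinearMap.comp_apply, LinearEquiv.coe_coe, LinearEquiv.apply_symm_apply,
    LinearMap.id_apply]
  ext
  simp [e, h.apply_apply_eq_zero]

theorem free_iff_injective {A : Type*} [CommRing A] [IsLocalRing A] {X Y Z : Type*}
    [AddCommGroup X] [Module A X] [AddCommGroup Y] [Module A Y] [AddCommGroup Z] [Module A Z]
    [Module.Finite A X] [Module.Finite A Y] [Module.Free A Y]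
    (f : X →ₗ[A] Y) (g : Y →ₗ[A] Z) (hf : Function.Injective f) (hg : Function.Surjective g)
    (h : Function.Exact f g) :
    Module.Free A Z ↔ Function.Injective (f.baseChange (IsLocalRing.ResidueField A)) := by
  constructor
  · intro hZ
    exact (IsLocalRing.split_injective_iff_lTensor_residueField_injective f).mp
      (exists_retraction f g hf hg h)
  · exact fun hinj => Module.free_of_lTensor_residueField_injective f g hg h hinj

variable [Module.Finite R M] [Module.Finite R N] [Module.Projective R N]

theorem mem_freeLocus_iff (p : PrimeSpectrum R) (d : M →ₗ[R] N) :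
    p ∈ Module.freeLocus R (N ⧸ LinearMap.range d) ↔
      LinearMap.ker (d.baseChange p.asIdeal.ResidueField) ≤
        LinearMap.range ((LinearMap.ker d).subtype.baseChange p.asIdeal.ResidueField) := by
  let A := Localization.AtPrime p.asIdeal
  let k := IsLocalRing.ResidueField A
  haveI : Module.Flat R A := IsLocalization.flat A p.asIdeal.primeCompl
  haveI : Module.Free A (A ⊗[R] N) := Module.free_of_flat_of_isLocalRing
  haveI : Module.Finite R (LinearMap.range d) := Module.Finite.range d
  rw [cond_iff_range_injective, Module.mem_freeLocus_iff_tensor p A,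
    free_iff_injective ((LinearMap.range d).subtype.baseChange A)
      ((LinearMap.range d).mkQ.baseChange A)
      (Module.Flat.lTensor_preserves_injective_linearMap _ Subtype.val_injective)
      (LinearMap.lTensor_surjective A (Submodule.mkQ_surjective _))
      (lTensor_exact A (LinearMap.exact_subtype_mkQ _) (Submodule.mkQ_surjective _))]
  let eX := AlgebraTensorModule.cancelBaseChange R A k k (LinearMap.range d)
  let eY := AlgebraTensorModule.cancelBaseChange R A k k N
  have hnat : eY.toLinearMap ∘ₗ ((LinearMap.range d).subtype.baseChange A).baseChange k =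
      (LinearMap.range d).subtype.baseChange k ∘ₗ eX.toLinearMap := by
    ext x
    simp [eX, eY]
  constructor
  · intro h
    intro a b hab
    obtain ⟨a, rfl⟩ := eX.surjective a
    obtain ⟨b, rfl⟩ := eX.surjective b
    have h1 := LinearMap.congr_fun hnat a
    have h2 := LinearMap.congr_fun hnat b
    simp only [LinearMap.comp_apply, LinearEquiv.coe_coe] at h1 h2
    exact congrArg eX (h (eY.injective (h1.trans (hab.trans h2.symm))))
  · intro h a b hab
    have h1 := LinearMap.congr_fun hnat a
    have h2 := LinearMap.congr_fun hnat b
    simp only [LinearMap.comp_apply, LinearEquiv.coe_coe] at h1 h2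
    exact eX.injective (h (h1.symm.trans ((congrArg eY hab).trans h2)))

end Groth.Agent.CokerProj
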